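import Cfsg.Agent.Spor.Chk

set_option autoImplicit false
set_option maxRecDepth 100000000
set_option Elab.async false
noncomputable section

namespace Cfsg.Agent.Spor.LyUKa

def m0_0 : Nat := nat_lit 0x8010040000080800
def m0_1 : Nat := nat_lit 0x21000040000000040084191
def m0_2 : Nat := nat_lit 0x10000001f00000a01000084b4
def m0_3 : Nat := nat_lit 0x1100040010001e0026004300060002
def m0_4 : Nat := nat_lit 0x10009050005020a0203020002
def m0_5 : Nat := nat_lit 0x10000001011100000000200023230313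
def m0_6 : Nat := nat_lit 0x41000004444441411444114441014414
def m0_7 : Nat := nat_lit 0x10000001011100000200020000000010
def m0_8 : Nat := nat_lit 0x1000004010500010008020102
def m0_9 : Nat := nat_lit 0x110000001000050026004300020006
def m0_10 : Nat := nat_lit 0x10000001f00000a010000998b
def m0_11 : Nat := nat_lit 0x210000400000000000a4991
def m0_12 : Nat := nat_lit 0x8010040000080800
def n0 : Net := Net.cons 64 m0_0 (Net.cons 32 m0_1 (Net.cons 16 m0_2 (Net.cons 8 m0_3 (Net.cons 4 m0_4 (Net.cons 2 m0_5 (Net.cons 1 m0_6 (Net.cons 2 m0_7 (Net.cons 4 m0_8 (Net.cons 8 m0_9 (Net.cons 16 m0_10 (Net.cons 32 m0_11 (Net.cons 64 m0_12 (Net.nil)))))))))))))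

def m1_0 : Nat := nat_lit 0x20c6040000080200
def m1_1 : Nat := nat_lit 0x41740080000000094008aee
def m1_2 : Nat := nat_lit 0x2030000094590000520000004ae6
def m1_3 : Nat := nat_lit 0x20001500dd00ad0080008a00550021
def m1_4 : Nat := nat_lit 0x2070403080901020408040508090201
def m1_5 : Nat := nat_lit 0x1310030000003111001031003100120
def m1_6 : Nat := nat_lit 0x1001004100100140514101510545104
def m1_7 : Nat := nat_lit 0x1000000000000110001001010010100
def m1_8 : Nat := nat_lit 0x2020003000101020408040508040200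
def m1_9 : Nat := nat_lit 0x2000150010000d0080000a00250021
def m1_10 : Nat := nat_lit 0x20300000945900005200000042e4
def m1_11 : Nat := nat_lit 0x41740080000000094008aee
def m1_12 : Nat := nat_lit 0x20c6040000080200
def n1 : Net := Net.cons 64 m1_0 (Net.cons 32 m1_1 (Net.cons 16 m1_2 (Net.cons 8 m1_3 (Net.cons 4 m1_4 (Net.cons 2 m1_5 (Net.cons 1 m1_6 (Net.cons 2 m1_7 (Net.cons 4 m1_8 (Net.cons 8 m1_9 (Net.cons 16 m1_10 (Net.cons 32 m1_11 (Net.cons 64 m1_12 (Net.nil)))))))))))))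

def m2_0 : Nat := nat_lit 0x8343000000c0801
def m2_1 : Nat := nat_lit 0x10e0410000000043104c10
def m2_2 : Nat := nat_lit 0x240000024e0000cf840000c010
def m2_3 : Nat := nat_lit 0x80061002b00810098008c000b0013
def m2_4 : Nat := nat_lit 0x1000f010c0100050c090300000806
def m2_5 : Nat := nat_lit 0x13011032120003100102112030110
def m2_6 : Nat := nat_lit 0x40044055501100001001110104044
def m2_7 : Nat := nat_lit 0x10011000000000002000110000010
def m2_8 : Nat := nat_lit 0x10000010301000008010300000804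
def m2_9 : Nat := nat_lit 0x80061002b00800090008c00010013
def m2_10 : Nat := nat_lit 0x240000024e00000c8700004010
def m2_11 : Nat := nat_lit 0x10e0410000000043104c10
def m2_12 : Nat := nat_lit 0x8343000000c0801
def n2 : Net := Net.cons 64 m2_0 (Net.cons 32 m2_1 (Net.cons 16 m2_2 (Net.cons 8 m2_3 (Net.cons 4 m2_4 (Net.cons 2 m2_5 (Net.cons 1 m2_6 (Net.cons 2 m2_7 (Net.cons 4 m2_8 (Net.cons 8 m2_9 (Net.cons 16 m2_10 (Net.cons 32 m2_11 (Net.cons 64 m2_12 (Net.nil)))))))))))))

def m3_0 : Nat := nat_lit 0x6004020000140720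
def m3_1 : Nat := nat_lit 0x40006041000000009604a800
def m3_2 : Nat := nat_lit 0x2000000010160000253000001043
def m3_3 : Nat := nat_lit 0x4004100120006008b008c00300061
def m3_4 : Nat := nat_lit 0x200000b000600050809000506000f0f
def m3_5 : Nat := nat_lit 0x1001010133101300022111013103301
def m3_6 : Nat := nat_lit 0x1001110000100511404444105010011
def m3_7 : Nat := nat_lit 0x1001010000100000200111000000010
def m3_8 : Nat := nat_lit 0x2000002000600050808000106000000
def m3_9 : Nat := nat_lit 0x4004100120006000d008c00300061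
def m3_10 : Nat := nat_lit 0x2000000010160000253000001043
def m3_11 : Nat := nat_lit 0x40006041000000009604a800
def m3_12 : Nat := nat_lit 0x6004020000140720
def n3 : Net := Net.cons 64 m3_0 (Net.cons 32 m3_1 (Net.cons 16 m3_2 (Net.cons 8 m3_3 (Net.cons 4 m3_4 (Net.cons 2 m3_5 (Net.cons 1 m3_6 (Net.cons 2 m3_7 (Net.cons 4 m3_8 (Net.cons 8 m3_9 (Net.cons 16 m3_10 (Net.cons 32 m3_11 (Net.cons 64 m3_12 (Net.nil)))))))))))))

def m4_0 : Nat := nat_lit 0x8dcb000000000016
def m4_1 : Nat := nat_lit 0xce2cec1100000000630722b2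
def m4_2 : Nat := nat_lit 0xc403000027050000c18a0000a5b0
def m4_3 : Nat := nat_lit 0x4600a5009800040084002000a40060
def m4_4 : Nat := nat_lit 0x608080c0101000a050903010400060e
def m4_5 : Nat := nat_lit 0x21202102001300002000000101001130
def m4_6 : Nat := nat_lit 0x44454040014510150110011145404100
def m4_7 : Nat := nat_lit 0x1000010020000200020021000200100
def m4_8 : Nat := nat_lit 0x6040006080000040300000003040800
def m4_9 : Nat := nat_lit 0xf0009000000250026000400080080
def m4_10 : Nat := nat_lit 0xc0030000360e000092a90000298c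
def m4_11 : Nat := nat_lit 0xc325ec8400000000730361c4
def m4_12 : Nat := nat_lit 0x8dcb000000000016
def n4 : Net := Net.cons 64 m4_0 (Net.cons 32 m4_1 (Net.cons 16 m4_2 (Net.cons 8 m4_3 (Net.cons 4 m4_4 (Net.cons 2 m4_5 (Net.cons 1 m4_6 (Net.cons 2 m4_7 (Net.cons 4 m4_8 (Net.cons 8 m4_9 (Net.cons 16 m4_10 (Net.cons 32 m4_11 (Net.cons 64 m4_12 (Net.nil)))))))))))))

def cl1 : Nat := nat_lit 0x1ffffffffffffffffffffffffff
def tt1 : Nat := nat_lit 0x8008040008001001204004
def tm1_0 : Nat := nat_lit 0x404dcfde4f52cbb5e5da24254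
def tm1_1 : Nat := nat_lit 0x1e7d65b46ea96d440e0a2408278
def tm1_2 : Nat := nat_lit 0x24c45b46e2f5f4fb4edccf2900
def tm1_3 : Nat := nat_lit 0x1db2b24b1100801000000000000
def ip1_0 : Nat := nat_lit 0x13f889e69742958685a59e44b14
def ip1_1 : Nat := nat_lit 0x1bef05325385a00b8ae62ca8928
def ip1_2 : Nat := nat_lit 0x3fa206b200d13191041c870810
def ip1_3 : Nat := nat_lit 0x42642944c275e4fb4e880d2340
def ip1_4 : Nat := nat_lit 0x80091011008801000000000000
def ip1 : List Nat := [ip1_0, ip1_1, ip1_2, ip1_3, ip1_4]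
def l1 : Let := ⟨0, false, cl1, tt1, [tm1_0, tm1_1, tm1_2, tm1_3]⟩

def cl2 : Nat := nat_lit 0x1ffffffffffffffffffffffffff
def tt2 : Nat := nat_lit 0xbcd1031008820120a822088828
def tm2_0 : Nat := nat_lit 0xbdd11b1b08a70120a922488828
def tm2_1 : Nat := nat_lit 0x14122580612753499474ca32510
def tm2_2 : Nat := nat_lit 0x1802002530000100400000
def tm2_3 : Nat := nat_lit 0x1410aa029200808400000000000
def ip2_0 : Nat := nat_lit 0x1bcf37b1728cb01b0ec2a8a8838
def ip2_1 : Nat := nat_lit 0x22f80d127d2cd9474ce32110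
def ip2_2 : Nat := nat_lit 0x101081800202c10400000000400
def ip2_3 : Nat := nat_lit 0x4008900b202930400000200400
def ip2_4 : Nat := nat_lit 0x20000000000000000000
def ip2 : List Nat := [ip2_0, ip2_1, ip2_2, ip2_3, ip2_4]
def l2 : Let := ⟨1, false, cl2, tt2, [tm2_0, tm2_1, tm2_2, tm2_3]⟩

def cl3 : Nat := nat_lit 0x1ffffffffffffffffffffffffff
def tt3 : Nat := nat_lit 0x420408c0c024c0420080000240
def tm3_0 : Nat := nat_lit 0x6384cdc5c475c04b40ccd317c4
def tm3_1 : Nat := nat_lit 0x1811b071908910981525d675886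
def tm3_2 : Nat := nat_lit 0x18007010151028d535dff6510
def tm3_3 : Nat := nat_lit 0x1bc5bf01e3c0818000000000000
def ip3_0 : Nat := nat_lit 0x1c31c5dd3f16ddac651d41d57d6
def ip3_1 : Nat := nat_lit 0x1a55b74133d59128d4351d43592
def ip3_2 : Nat := nat_lit 0x18140950b35091a0401153d5486
def ip3_3 : Nat := nat_lit 0x18c202140080010010082a0800
def ip3 : List Nat := [ip3_0, ip3_1, ip3_2, ip3_3]
def l3 : Let := ⟨2, false, cl3, tt3, [tm3_0, tm3_1, tm3_2, tm3_3]⟩

def cl4 : Nat := nat_lit 0x1ffffffffffffffffffffffffff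
def tt4 : Nat := nat_lit 0x101081403210902040110141482
def tm4_0 : Nat := nat_lit 0x1eb9875e379eb0f451130d51482
def tm4_1 : Nat := nat_lit 0x4027e11814422010c024080814
def tm4_2 : Nat := nat_lit 0x32e10010423811d64deb4800
def tm4_3 : Nat := nat_lit 0xeec50afc4cb045400000000000
def ip4_0 : Nat := nat_lit 0x12dd8dff7614b0a1503559d5486
def ip4_1 : Nat := nat_lit 0xa4c6cbbc44b06940400dcb4014
def ip4_2 : Nat := nat_lit 0xe453412418d23911d268ea0810
def ip4_3 : Nat := nat_lit 0xe67049e4403240508420880000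
def ip4_4 : Nat := nat_lit 0x8002000000004000000000000
def ip4 : List Nat := [ip4_0, ip4_1, ip4_2, ip4_3, ip4_4]
def l4 : Let := ⟨3, false, cl4, tt4, [tm4_0, tm4_1, tm4_2, tm4_3]⟩

def cl5 : Nat := nat_lit 0x1ffffffffffffffffffffffffff
def tt5 : Nat := nat_lit 0x2020121014090244012100
def tm5_0 : Nat := nat_lit 0x176e36505264b60d1d468c62c34
def tm5_1 : Nat := nat_lit 0x1adc4ab7bc4119c280a04012e26
def tm5_2 : Nat := nat_lit 0x2e802a01c633cc6198703c0100
def tm5_3 : Nat := nat_lit 0x1d11994b8398801000000000000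
def ip5_0 : Nat := nat_lit 0x16de25b8548f268f0c458da0b30
def ip5_1 : Nat := nat_lit 0x1fcd1bf987f3bd4699a24292f24
def ip5_2 : Nat := nat_lit 0x13058059848109200040000004
def ip5_3 : Nat := nat_lit 0x1d01808a261a041400030140602
def ip5 : List Nat := [ip5_0, ip5_1, ip5_2, ip5_3]
def l5 : Let := ⟨4, false, cl5, tt5, [tm5_0, tm5_1, tm5_2, tm5_3]⟩

def cl6 : Nat := nat_lit 0x1ffffffffffffffffffffffffff
def tt6 : Nat := nat_lit 0x224004004020904408c20010
def tm6_0 : Nat := nat_lit 0x16ec22ab63230942d6ad42d6319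
def tm6_1 : Nat := nat_lit 0x1b5cc0b4be0476ad404082a025c
def tm6_2 : Nat := nat_lit 0x80c40bc2a06780e67891c44020
def tm6_3 : Nat := nat_lit 0x15b3bd41d040802000000000000
def ip6_0 : Nat := nat_lit 0xadd0f323125b1e2d224489213d
def ip6_1 : Nat := nat_lit 0xb6fb5b54206a20f06c18ee4228
def ip6_2 : Nat := nat_lit 0x1490c0483e045c2060080044050
def ip6_3 : Nat := nat_lit 0x158219418840c88021881200044
def ip6 : List Nat := [ip6_0, ip6_1, ip6_2, ip6_3]
def l6 : Let := ⟨4, true, cl6, tt6, [tm6_0, tm6_1, tm6_2, tm6_3]⟩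

def NT : List Net := [n0, n1, n2, n3, n4]
def LT : List Let := [⟨0, false, 0, 0, []⟩, l1, l2, l3, l4, l5, l6]
def T : Tab := ⟨NT, LT⟩
def EX : List (List Nat) := [[], [0], [2], [4], [6], [8], [9]]
def RL : List (List Nat) := [[8, 8, 8], [8, 2, 8, 2], [8, 4, 8, 4, 8, 4], [2, 4, 8, 0, 8, 4, 2, 0], [4, 8, 4, 2, 4, 2, 4, 2, 4, 8, 4, 2, 4, 2, 4, 2], [2, 6, 0, 8, 6, 9, 2, 0], [2, 0, 2, 0], [6, 2, 4, 2, 4, 2, 4, 2, 6, 4], [8, 4, 2, 4, 2, 4, 9, 6, 2, 4, 8, 4, 2, 0, 6], [0, 9, 6, 8, 6, 0, 6], [2, 8, 6, 0, 2, 6, 2, 0, 6, 2, 0, 6]]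
def XL : List (List Nat) := []
def BW : List (List Nat) := [[0], [2], [4], [8]]
def IV : Nat := 0x5060403020100
def L : List Nat := [1, 2, 3, 4, 5, 6]
def gs : List Nat := [1, 2, 3, 4, 5]
def base : List Nat := [1, 2, 3, 5]

end Cfsg.Agent.Spor.LyUKa
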